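import Groth.Agent.LogCartier.Lie

/-!
Projection onto the part of weights divisible by `p`, from a commuting family of Lie derivatives.
-/

set_option autoImplicit false

universe u
open exteriorPower

noncomputable section

namespace Groth.Agent.LogCartier

variable {R : Type u} [CommRing R] {J : Type*} {V : ℕ → Type u} [∀ q, AddCommGroup (V q)]
  [∀ q, Module R (V q)] (d : ∀ q, V q →ₗ[R] V (q + 1)) (l : J → ∀ q, Module.End R (V q)) (k : ℕ)

/-- `∏_j (1 - l_j^k)`. -/
def proj : List J → ∀ q, Module.End R (V q)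
  | [], _ => LinearMap.id
  | j :: js, q => proj js q - (l j q ^ k) ∘ₗ proj js q

lemma pow_comm {j : J} (hc : ∀ q x, d q (l j q x) = l j (q + 1) (d q x)) :
    ∀ (m q : ℕ) (x : V q), d q ((l j q ^ m) x) = (l j (q + 1) ^ m) (d q x)
  | 0, _, _ => rfl
  | m + 1, q, x => by
    rw [pow_succ', pow_succ']
    change d q (l j q ((l j q ^ m) x)) = l j (q + 1) ((l j (q + 1) ^ m) (d q x))
    rw [hc, pow_comm hc m]

lemma proj_comm (hc : ∀ j q x, d q (l j q x) = l j (q + 1) (d q x)) :
    ∀ (js : List J) (q : ℕ) (x : V q), d q (proj l k js q x) = proj l k js (q + 1) (d q x)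
  | [], _, _ => rfl
  | j :: js, q, x => by
    change d q (proj l k js q x - (l j q ^ k) (proj l k js q x)) = _
    rw [map_sub, pow_comm d l (hc j), proj_comm hc js]
    rfl

lemma sub_proj_mem (hc : ∀ j q x, d q (l j q x) = l j (q + 1) (d q x)) (hk : 1 ≤ k)
    {q : ℕ} {C : Submodule R (V q)} (hC : ∀ j x, d q x = 0 → l j q x ∈ C) :
    ∀ (js : List J) (x : V q), d q x = 0 → x - proj l k js q x ∈ C
  | [], x, _ => by simp [proj]
  | j :: js, x, hx => by
    have h1 := sub_proj_mem hc hk hC js x hx
    have hy : d q (proj l k js q x) = 0 := by rw [proj_comm d l k hc, hx, map_zero]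
    have h2 : (l j q ^ k) (proj l k js q x) ∈ C := by
      obtain ⟨m, rfl⟩ : ∃ m, k = m + 1 := ⟨k - 1, by omega⟩
      rw [pow_succ']
      change l j q ((l j q ^ m) _) ∈ C
      refine hC j _ ?_
      rw [pow_comm d l (hc j), hy, map_zero]
    change x - (proj l k js q x - (l j q ^ k) (proj l k js q x)) ∈ C
    rw [show ∀ a b c : V q, a - (b - c) = (a - b) + c from fun a b c => by abel]
    exact C.add_mem h1 h2

lemma pow_eigen {j : J} {q : ℕ} {x : V q} {c : R} (h : l j q x = c • x) :
    ∀ m : ℕ, (l j q ^ m) x = c ^ m • x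
  | 0 => by simp
  | m + 1 => by
    rw [pow_succ']
    change l j q ((l j q ^ m) x) = _
    rw [pow_eigen h m, map_smul, h, smul_smul, pow_succ]

lemma proj_eigen {q : ℕ} {x : V q} {c : J → R} (h : ∀ j, l j q x = c j • x) :
    ∀ js : List J, proj l k js q x = ((js.map fun j => 1 - c j ^ k).prod) • x
  | [] => by simp [proj]
  | j :: js => by
    change proj l k js q x - (l j q ^ k) (proj l k js q x) = _
    rw [proj_eigen h js, map_smul, pow_eigen l (h j), smul_smul, ← sub_smul, List.map_cons,
      List.prod_cons]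
    congr 1
    ring

end Groth.Agent.LogCartier
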