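import Groth.Agent.DRPoincare.Basic

/-!
Lie derivatives `d h + h d` on forms whose differential is given on the wedges of a family of closed one-forms.
-/

set_option autoImplicit false

universe u
open exteriorPower

noncomputable section

namespace Groth.Agent.LogCartier

open DRPoincare (wedge contr wedge_ιMulti contr_wedge contr_wedge_zero)

variable {R A L : Type u} [CommRing R] [CommRing A] [Algebra R A] [AddCommGroup L] [Module A L]
  [Module R L] [IsScalarTower R A L] {I : Type*} (D : Derivation R A L) (b : I → L)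

/-- A wedge of members of the family. -/
def B (q : ℕ) (t : Fin q → I) : ↥(⋀[A]^q L) := ιMulti A q fun k => b (t k)

lemma B_cons (q : ℕ) (i : I) (t : Fin q → I) :
    B (A := A) b (q + 1) (Fin.cons i t) = wedge q (b i) (B b q t) := by
  rw [B, B, wedge_ιMulti]
  congr 1
  funext j
  refine Fin.cases ?_ (fun j => ?_) j <;> simp

/-- The differential is given on wedges of the family. -/
def Rule (d : ∀ q : ℕ, ↥(⋀[A]^q L) →ₗ[R] ↥(⋀[A]^(q + 1) L)) : Prop :=
  ∀ (q : ℕ) (f : A) (t : Fin q → I), d q (f • B b q t) = wedge q (D f) (B b q t)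

variable {D b} (hspan : Submodule.span A (Set.range b) = ⊤)
  {d : ∀ q : ℕ, ↥(⋀[A]^q L) →ₗ[R] ↥(⋀[A]^(q + 1) L)} (hd : Rule D b d)

include hspan in
lemma induction_B {q : ℕ} {P : ↥(⋀[A]^q L) → Prop} (h0 : P 0)
    (hadd : ∀ x y, P x → P y → P (x + y))
    (hgen : ∀ (f : A) (t : Fin q → I), P (f • B b q t)) (x : ↥(⋀[A]^q L)) : P x := by
  have hx : x ∈ Submodule.span A (Set.range (B (A := A) b q)) := by
    refine (?_ : ⊤ ≤ Submodule.span A _) (Submodule.mem_top (x := x))
    rw [← ιMulti_span_of_span A q L hspan]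
    refine Submodule.span_mono ?_
    rintro _ ⟨v, hv, rfl⟩
    choose t ht using fun i => hv (Set.mem_range_self i)
    exact ⟨t, congrArg _ (funext ht)⟩
  suffices h : ∀ a : A, P (a • x) by simpa using h 1
  induction hx using Submodule.span_induction with
  | zero => intro a; rwa [smul_zero]
  | add u v _ _ hu hv => intro a; rw [smul_add]; exact hadd _ _ (hu a) (hv a)
  | smul c u _ hu => intro a; rw [smul_smul]; exact hu _
  | mem z hz => obtain ⟨t, rfl⟩ := hz; exact fun a => hgen a t

include hd in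
lemma d_B (q : ℕ) (t : Fin q → I) : d q (B b q t) = 0 := by
  have h := hd q 1 t
  rwa [one_smul, D.map_one_eq_zero, DRPoincare.wedge_zero] at h

include hspan hd in
lemma d_smul (q : ℕ) (f : A) (x : ↥(⋀[A]^q L)) :
    d q (f • x) = f • d q x + wedge q (D f) x := by
  induction x using induction_B hspan with
  | h0 => simp
  | hadd x y hx hy => rw [smul_add, map_add, hx, hy, map_add, map_add, smul_add]; abel
  | hgen g t =>
    rw [smul_smul, hd, hd, D.leibniz, DRPoincare.wedge_add, DRPoincare.wedge_smul,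
      DRPoincare.wedge_smul, map_smul]

include hspan hd in
lemma d_wedge (q : ℕ) (i : I) (x : ↥(⋀[A]^q L)) :
    d (q + 1) (wedge q (b i) x) = - wedge (q + 1) (b i) (d q x) := by
  induction x using induction_B hspan with
  | h0 => simp
  | hadd x y hx hy => simp only [map_add, hx, hy, neg_add]
  | hgen g t =>
    rw [map_smul, ← B_cons, hd, hd, B_cons, DRPoincare.wedge_wedge]

variable (φ : Module.Dual A L) (c : I → A) (hφ : ∀ i, D (φ (b i)) = c i • b i)

include hspan hd hφ in
lemma d_contr_B : ∀ (q : ℕ) (t : Fin (q + 1) → I),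
    d q (contr φ q (B b (q + 1) t)) = (∑ k, c (t k)) • B b (q + 1) t
  | 0, t => by
    rw [← Fin.cons_self_tail t, B_cons, contr_wedge_zero, hd, hφ, DRPoincare.wedge_smul]
    simp
  | q + 1, t => by
    rw [← Fin.cons_self_tail t, B_cons, contr_wedge, map_sub, d_smul hspan hd, d_B hd, smul_zero,
      zero_add, hφ, DRPoincare.wedge_smul, d_wedge hspan hd, sub_neg_eq_add, d_contr_B q, map_smul,
      Fin.sum_univ_succ (f := fun k => c ((Fin.cons (t 0) (Fin.tail t) : Fin (q + 2) → I) k)), add_smul]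
    simp only [Fin.cons_zero, Fin.cons_succ]

variable (d) in
/-- The Lie derivative. -/
def lie : ∀ q : ℕ, Module.End R ↥(⋀[A]^q L)
  | 0 => (contr φ 0).restrictScalars R ∘ₗ d 0
  | q + 1 => d q ∘ₗ (contr φ q).restrictScalars R + (contr φ (q + 1)).restrictScalars R ∘ₗ d (q + 1)

include hspan hd hφ in
lemma lie_smul_B : ∀ (q : ℕ) (f : A) (t : Fin q → I),
    lie d φ q (f • B b q t) = (φ (D f) + (∑ k, c (t k)) * f) • B b q t
  | 0, f, t => by
    change contr φ 0 (d 0 (f • B b 0 t)) = _
    rw [hd, contr_wedge_zero]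
    simp
  | q + 1, f, t => by
    change d q (contr φ q (f • B b (q + 1) t)) + contr φ (q + 1) (d (q + 1) (f • B b (q + 1) t)) = _
    rw [map_smul, d_smul hspan hd, d_contr_B hspan hd φ c hφ, hd, contr_wedge, add_smul, smul_smul,
      mul_comm]
    abel

lemma lie_comm (hdd : ∀ q x, d (q + 1) (d q x) = 0) :
    ∀ (q : ℕ) (x : ↥(⋀[A]^q L)), d q (lie d φ q x) = lie d φ (q + 1) (d q x)
  | 0, x => by
    change d 0 (contr φ 0 (d 0 x)) = d 0 (contr φ 0 (d 0 x)) + contr φ 1 (d 1 (d 0 x))
    rw [hdd, map_zero, add_zero]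
  | q + 1, x => by
    change d (q + 1) (d q (contr φ q x) + contr φ (q + 1) (d (q + 1) x)) =
      d (q + 1) (contr φ (q + 1) (d (q + 1) x)) + contr φ (q + 2) (d (q + 2) (d (q + 1) x))
    rw [map_add, hdd, hdd, map_zero, zero_add, add_zero]

lemma lie_mem_coboundaries : ∀ (q : ℕ) (x : ↥(⋀[A]^q L)), x ∈ DeRham.cocycles d q →
    lie d φ q x ∈ DeRham.coboundaries d q
  | 0, x, hx => by
    have hx' : d 0 x = 0 := LinearMap.mem_ker.1 hx
    change contr φ 0 (d 0 x) ∈ _
    rw [hx', map_zero]
    exact Submodule.zero_mem _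
  | q + 1, x, hx => by
    have hx' : d (q + 1) x = 0 := LinearMap.mem_ker.1 hx
    change d q (contr φ q x) + contr φ (q + 1) (d (q + 1) x) ∈ _
    rw [hx', map_zero, add_zero]
    exact LinearMap.mem_range_self _ _

end Groth.Agent.LogCartier
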