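import Groth.Agent.LogCartier.Proj
import Groth.Prelude.Def_LogDiff
import Mathlib.RingTheory.Kaehler.Polynomial
import Mathlib.Algebra.MvPolynomial.Expand
import Mathlib.Algebra.CharP.Lemmas
import Mathlib.FieldTheory.Finite.Basic

/-!
The Cartier description of closed forms with logarithmic poles on affine space in characteristic `p`.
-/

set_option autoImplicit false
set_option linter.unusedSectionVars false

universe u
open MvPolynomial exteriorPower

noncomputable section

namespace Groth.Agent.LogCartier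

variable {R : Type u} [CommRing R] {n r : ℕ} {hr : r ≤ n}

lemma eq_zero_of_mul_monomial {c : (MvPolynomial (Fin n) R)} {u : Fin n →₀ ℕ} (h : c * monomial u 1 = 0) : c = 0 := by
  refine MvPolynomial.ext _ _ fun v => ?_
  have h1 := congrArg (coeff (v + u)) h
  rw [coeff_mul_monomial, mul_one, coeff_zero] at h1
  rw [h1, coeff_zero]

variable {L : Type u} [AddCommGroup L] [Module (MvPolynomial (Fin n) R) L] [Module R L] [IsScalarTower R (MvPolynomial (Fin n) R) L]
  {ι : (Ω[(MvPolynomial (Fin n) R)⁄R]) →ₗ[(MvPolynomial (Fin n) R)] L} {dl : Fin r → L}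
  (hL : LogDiff.IsLog (KaehlerDifferential.D R (MvPolynomial (Fin n) R)) (fun i : Fin r => (X (Fin.castLE hr i) : (MvPolynomial (Fin n) R))) ι dl)

/-- The scalar with `ι (dX_ν) = scal ν • bvec ν`. -/
def scal (r : ℕ) (ν : Fin n) : (MvPolynomial (Fin n) R) := if (ν : ℕ) < r then X ν else 1

/-- The complementary scalar. -/
def coscal (r : ℕ) (ν : Fin n) : (MvPolynomial (Fin n) R) := if (ν : ℕ) < r then 1 else X ν

variable (ι dl) in
/-- The logarithmic basis. -/
def bvec (ν : Fin n) : L :=
  if h : (ν : ℕ) < r then dl ⟨ν, h⟩ else ι (KaehlerDifferential.D R (MvPolynomial (Fin n) R) (X ν))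

lemma scal_mul_coscal (ν : Fin n) : scal (R := R) r ν * coscal r ν = X ν := by
  unfold scal coscal; split_ifs <;> simp

include hL in
lemma scal_smul_bvec (ν : Fin n) :
    scal (R := R) r ν • bvec ι dl ν = ι (KaehlerDifferential.D R (MvPolynomial (Fin n) R) (X ν)) := by
  unfold scal bvec
  split_ifs with h
  · exact hL.1 ⟨ν, h⟩
  · exact one_smul _ _

include hL in
lemma bvec_span : Submodule.span (MvPolynomial (Fin n) R) (Set.range (bvec ι dl)) = ⊤ := by
  refine top_le_iff.mp (hL.2.1.symm.le.trans (Submodule.span_le.mpr ?_))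
  rintro x (⟨ω, rfl⟩ | ⟨i, rfl⟩)
  · have hω : ω ∈ Submodule.span (MvPolynomial (Fin n) R) (Set.range (KaehlerDifferential.mvPolynomialBasis R (Fin n))) := by
      rw [Module.Basis.span_eq]; trivial
    have := Submodule.mem_map_of_mem (f := ι) hω
    rw [Submodule.map_span] at this
    refine (Submodule.span_le.mpr ?_) this
    rintro _ ⟨_, ⟨ν, rfl⟩, rfl⟩
    rw [KaehlerDifferential.mvPolynomialBasis_apply, ← scal_smul_bvec hL ν]
    exact Submodule.smul_mem _ _ (Submodule.subset_span ⟨ν, rfl⟩)
  · refine Submodule.subset_span ⟨Fin.castLE hr i, ?_⟩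
    unfold bvec
    rw [dif_pos (show ((Fin.castLE hr i : Fin n) : ℕ) < r from i.2)]
    rfl

include hL in
lemma iota_injective : Function.Injective ι := by
  refine (injective_iff_map_eq_zero ι).mpr fun ω hω => ?_
  obtain ⟨k, hk⟩ := (hL.2.2.2 ω).mp hω
  refine (KaehlerDifferential.mvPolynomialBasis R (Fin n)).repr.injective ?_
  ext1 ν
  have h1 := congrArg (fun z => (KaehlerDifferential.mvPolynomialBasis R (Fin n)).repr z ν) hk
  simp only [map_smul, Finsupp.smul_apply, map_zero, Finsupp.zero_apply, smul_eq_mul] at h1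
  rw [map_zero, Finsupp.zero_apply]
  have hP : (∏ i : Fin r, (X (Fin.castLE hr i) : (MvPolynomial (Fin n) R))) ^ k =
      monomial (k • ∑ i : Fin r, Finsupp.single (Fin.castLE hr i) 1) 1 := by
    simp only [X]
    rw [← monomial_sum_one, monomial_pow, one_pow]
  rw [hP, mul_comm] at h1
  exact eq_zero_of_mul_monomial h1

include hL in
lemma bvec_linearIndependent : LinearIndependent (MvPolynomial (Fin n) R) (bvec ι dl) := by
  classical
  rw [Fintype.linearIndependent_iff]
  intro g hg ν₀
  let u : Fin n →₀ ℕ := ∑ i : Fin r, Finsupp.single (Fin.castLE hr i) 1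
  let v : Fin n → (Fin n →₀ ℕ) := fun ν => if (ν : ℕ) < r then u - Finsupp.single ν 1 else u
  have hv : ∀ ν, monomial u (1 : R) = monomial (v ν) 1 * scal r ν := fun ν => by
    by_cases h : (ν : ℕ) < r
    · simp only [v, scal, if_pos h, X, monomial_mul, one_mul]
      congr 1
      rw [tsub_add_cancel_of_le]
      refine Finsupp.single_le_iff.mpr ?_
      simp only [u, Finsupp.finsetSum_apply]
      refine le_trans ?_ (Finset.single_le_sum (fun i _ => zero_le) (Finset.mem_univ (⟨ν, h⟩ : Fin r)))
      simp [Finsupp.single_apply]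
    · simp only [v, scal, if_neg h, mul_one]
  have h2 : ι (∑ ν, (g ν * monomial (v ν) 1) • KaehlerDifferential.D R (MvPolynomial (Fin n) R) (X ν)) = 0 := by
    rw [map_sum, ← smul_zero (monomial u (1 : R)), ← hg, Finset.smul_sum]
    refine Finset.sum_congr rfl fun ν _ => ?_
    rw [map_smul, ← scal_smul_bvec hL ν, smul_smul, smul_smul, hv ν, mul_assoc, mul_comm]
  have h3 := iota_injective hL (h2.trans (map_zero ι).symm)
  have h4 := congrArg (fun z => (KaehlerDifferential.mvPolynomialBasis R (Fin n)).repr z ν₀) h3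
  simp only [map_sum, map_smul, Finsupp.finsetSum_apply, Finsupp.smul_apply,
    KaehlerDifferential.mvPolynomialBasis_repr_D_X, map_zero, Finsupp.zero_apply, smul_eq_mul,
    Finsupp.single_apply, mul_ite, mul_one, mul_zero, Finset.sum_ite_eq', Finset.mem_univ,
    if_true] at h4
  exact eq_zero_of_mul_monomial h4

/-- The logarithmic basis. -/
def lbasis : Module.Basis (Fin n) (MvPolynomial (Fin n) R) L :=
  Module.Basis.mk (bvec_linearIndependent hL) (bvec_span hL).ge

lemma lbasis_apply (ν : Fin n) : lbasis hL ν = bvec ι dl ν := Module.Basis.mk_apply _ _ ν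

/-- The contraction form of a coordinate. -/
def phi (j : Fin n) : Module.Dual (MvPolynomial (Fin n) R) L := coscal (R := R) r j • (lbasis hL).coord j

lemma phi_bvec (j i : Fin n) : phi hL j (bvec ι dl i) = if i = j then coscal r j else 0 := by
  rw [phi, LinearMap.smul_apply, Module.Basis.coord_apply, ← lbasis_apply hL, Module.Basis.repr_self,
    Finsupp.single_apply, smul_eq_mul]
  split_ifs <;> simp

/-- The weight shift of a coordinate. -/
def wt (r : ℕ) (j i : Fin n) : ℕ := if i = j ∧ ¬ (j : ℕ) < r then 1 else 0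

lemma D_phi (j i : Fin n) : (ι.compDer (KaehlerDifferential.D R (MvPolynomial (Fin n) R))) (phi hL j (bvec ι dl i)) =
    (wt r j i : (MvPolynomial (Fin n) R)) • bvec ι dl i := by
  rw [phi_bvec]
  unfold wt coscal bvec
  by_cases h : i = j
  · subst h
    by_cases hi : (i : ℕ) < r
    · simp [hi]
    · simp [hi]
  · simp [h]

include hL in
lemma D_eq_sum (f : (MvPolynomial (Fin n) R)) : (ι.compDer (KaehlerDifferential.D R (MvPolynomial (Fin n) R))) f =
    ∑ ν, (pderiv ν f * scal r ν) • bvec ι dl ν := by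
  change ι (KaehlerDifferential.D R (MvPolynomial (Fin n) R) f) = _
  conv_lhs => rw [← (KaehlerDifferential.mvPolynomialBasis R (Fin n)).sum_repr (KaehlerDifferential.D R (MvPolynomial (Fin n) R) f)]
  rw [map_sum]
  refine Finset.sum_congr rfl fun ν _ => ?_
  rw [map_smul, KaehlerDifferential.mvPolynomialBasis_repr_apply,
    KaehlerDifferential.mvPolynomialBasis_apply, ← scal_smul_bvec hL ν, smul_smul]

lemma phi_D (j : Fin n) (f : (MvPolynomial (Fin n) R)) :
    phi hL j ((ι.compDer (KaehlerDifferential.D R (MvPolynomial (Fin n) R))) f) = X j * pderiv j f := by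
  rw [D_eq_sum hL, map_sum]
  simp only [map_smul, phi_bvec, smul_eq_mul, mul_ite, mul_zero, Finset.sum_ite_eq',
    Finset.mem_univ, if_true]
  rw [mul_assoc, scal_mul_coscal, mul_comm]

variable {d : ∀ q : ℕ, ↥(⋀[(MvPolynomial (Fin n) R)]^q L) →ₗ[R] ↥(⋀[(MvPolynomial (Fin n) R)]^(q + 1) L)}

lemma rule_of_isLogRule (hlog : LogDiff.IsLogRule (KaehlerDifferential.D R (MvPolynomial (Fin n) R)) ι dl d) :
    Rule (ι.compDer (KaehlerDifferential.D R (MvPolynomial (Fin n) R))) (bvec ι dl) d := fun q f t => by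
  rw [B, DRPoincare.wedge_ιMulti]
  refine hlog q f _ fun k => ?_
  unfold bvec
  split_ifs with h
  · exact Or.inr ⟨_, rfl⟩
  · exact Or.inl ⟨_, rfl⟩

/-- The weight of a monomial form. -/
def weight (r : ℕ) {a : ℕ} (m : Fin n →₀ ℕ) (t : Fin a → Fin n) (j : Fin n) : ℕ :=
  m j + ∑ k, wt r j (t k)

/-- A monomial form. -/
def monForm {a : ℕ} (dl : Fin r → L) (ι : (Ω[(MvPolynomial (Fin n) R)⁄R]) →ₗ[(MvPolynomial (Fin n) R)] L)
    (m : Fin n →₀ ℕ) (t : Fin a → Fin n) : ↥(⋀[(MvPolynomial (Fin n) R)]^a L) :=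
  monomial m (1 : R) • B (bvec ι dl) a t

variable (p : ℕ) [Fact p.Prime] [CharP R p]

lemma one_sub_pow (M : ℕ) : (1 : R) - (M : R) ^ (p - 1) = if p ∣ M then 1 else 0 := by
  have hp : p.Prime := Fact.out
  split_ifs with h
  · rw [(CharP.cast_eq_zero_iff R p M).mpr h, zero_pow (by have := hp.two_le; omega), sub_zero]
  · have h1 : ((M : ZMod p)) ≠ 0 := fun h0 => h ((CharP.cast_eq_zero_iff (ZMod p) p M).mp h0)
    have h2 := congrArg (ZMod.castHom dvd_rfl R) (ZMod.pow_card_sub_one_eq_one h1)
    rw [map_pow, map_natCast, map_one] at h2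
    rw [h2, sub_self]

/-- The projector. -/
def cproj (q : ℕ) : Module.End R ↥(⋀[(MvPolynomial (Fin n) R)]^q L) :=
  proj (fun (j : Fin n) (q : ℕ) => lie d (phi hL j) q) (p - 1) (List.finRange n) q

variable (hlog : LogDiff.IsLogRule (KaehlerDifferential.D R (MvPolynomial (Fin n) R)) ι dl d)

include hlog in
lemma lie_monForm {a : ℕ} (m : Fin n →₀ ℕ) (t : Fin a → Fin n) (j : Fin n) :
    lie d (phi hL j) a (monForm dl ι m t) = (weight r m t j : R) • monForm dl ι m t := by
  rw [monForm, lie_smul_B (bvec_span hL) (rule_of_isLogRule hlog) (phi hL j) (fun i => (wt r j i : (MvPolynomial (Fin n) R)))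
    (D_phi hL j), phi_D, X_mul_pderiv_monomial, ← algebraMap_smul (MvPolynomial (Fin n) R) (weight r m t j : R), smul_smul]
  congr 1
  rw [weight, map_natCast, nsmul_eq_mul]
  push_cast
  ring

include hlog in
lemma cproj_monForm {a : ℕ} (m : Fin n →₀ ℕ) (t : Fin a → Fin n) :
    cproj hL (d := d) p a (monForm dl ι m t) =
      if ∀ j, p ∣ weight r m t j then monForm dl ι m t else 0 := by
  rw [cproj, proj_eigen _ _ (lie_monForm hL hlog m t)]
  simp only [one_sub_pow p]
  split_ifs with h
  · rw [List.prod_eq_one, one_smul]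
    rintro x hx
    obtain ⟨j, -, rfl⟩ := List.mem_map.mp hx
    rw [if_pos (h j)]
  · push Not at h
    obtain ⟨j, hj⟩ := h
    rw [List.prod_eq_zero, zero_smul]
    exact List.mem_map.mpr ⟨j, List.mem_finRange j, if_neg hj⟩

include hL hlog in
lemma d_monForm_eq_zero {a : ℕ} (m : Fin n →₀ ℕ) (t : Fin a → Fin n)
    (h : ∀ j, p ∣ weight r m t j) : d a (monForm dl ι m t) = 0 := by
  classical
  rw [monForm, rule_of_isLogRule hlog]
  rw [D_eq_sum hL]
  have hz : ∀ ν, DRPoincare.wedge a ((pderiv ν (monomial m (1 : R)) * scal r ν) • bvec ι dl ν)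
      (B (bvec ι dl) a t) = 0 := fun ν => by
    rw [DRPoincare.wedge_smul]
    by_cases hν : ∃ k, t k = ν
    · obtain ⟨k, hk⟩ := hν
      rw [B, DRPoincare.wedge_ιMulti, AlternatingMap.map_eq_zero_of_eq _ _ (i := 0) (j := k.succ)
        (by simp [hk]) (Fin.succ_ne_zero k).symm, smul_zero]
    · push Not at hν
      have hw : weight r m t ν = m ν := by simp [weight, wt, hν]
      have h0 : (m ν : R) = 0 := (CharP.cast_eq_zero_iff R p (m ν)).mpr (hw ▸ h ν)
      rw [pderiv_monomial, one_mul, h0, monomial_zero, zero_mul, zero_smul]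
  apply Subtype.ext
  rw [DRPoincare.coe_wedge, map_sum, Finset.sum_mul, Submodule.coe_zero]
  refine Finset.sum_eq_zero fun ν _ => ?_
  have := congrArg Subtype.val (hz ν)
  rwa [DRPoincare.coe_wedge, Submodule.coe_zero] at this

include hL in
lemma induction_monForm {a : ℕ} {Q : ↥(⋀[(MvPolynomial (Fin n) R)]^a L) → Prop} (h0 : Q 0)
    (hadd : ∀ x y, Q x → Q y → Q (x + y))
    (hgen : ∀ (c : R) (m : Fin n →₀ ℕ) (s : Set.powersetCard (Fin n) a),
      Q (c • monForm dl ι m (Set.powersetCard.ofFinEmbEquiv.symm s))) (x : ↥(⋀[(MvPolynomial (Fin n) R)]^a L)) : Q x := by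
  rw [← ((lbasis hL).exteriorPower (n := a)).sum_repr x]
  refine Finset.sum_induction _ Q hadd h0 fun s _ => ?_
  generalize ((lbasis hL).exteriorPower (n := a)).repr x s = f
  rw [exteriorPower.basis_apply]
  have hB : exteriorPower.ιMulti_family (MvPolynomial (Fin n) R) a (lbasis hL) s =
      B (bvec ι dl) a (Set.powersetCard.ofFinEmbEquiv.symm s) := by
    refine congrArg (ιMulti (MvPolynomial (Fin n) R) a) (funext fun k => ?_)
    exact lbasis_apply hL _
  rw [hB]
  induction f using MvPolynomial.induction_on' with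
  | monomial m c =>
    have := hgen c m s
    rwa [monForm, ← smul_assoc, smul_monomial, smul_eq_mul, mul_one] at this
  | add f g hf hg => rw [add_smul]; exact hadd _ _ hf hg

include hlog in
lemma d_cproj {a : ℕ} (x : ↥(⋀[(MvPolynomial (Fin n) R)]^a L)) : d a (cproj hL (d := d) p a x) = 0 := by
  induction x using induction_monForm hL with
  | h0 => simp
  | hadd x y hx hy => rw [map_add, map_add, hx, hy, add_zero]
  | hgen c m s =>
    rw [map_smul, map_smul, cproj_monForm hL p hlog]
    split_ifs with h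
    · rw [d_monForm_eq_zero hL p hlog m _ h, smul_zero]
    · rw [map_zero, smul_zero]

variable {a : ℕ} {w : Fin n → L} (hw : ∀ i : Fin r, w (Fin.castLE hr i) = dl i)
  (hw' : ∀ ν : Fin n, r ≤ (ν : ℕ) → w ν = ι (((X ν : (MvPolynomial (Fin n) R)) ^ (p - 1)) • KaehlerDifferential.D R (MvPolynomial (Fin n) R) (X ν)))
  {e : Finset (Fin n) → ↥(⋀[(MvPolynomial (Fin n) R)]^a L)}
  (he : ∀ (s : Finset (Fin n)) (hs : s.card = a),
    e s = exteriorPower.ιMulti (MvPolynomial (Fin n) R) a fun k => w (s.orderEmbOfFin hs k))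

/-- The exponent of `e s` against the basis. -/
def shift (r p : ℕ) (s : Finset (Fin n)) : Fin n →₀ ℕ :=
  Finsupp.equivFunOnFinite.symm fun ν => if ν ∈ s ∧ ¬ (ν : ℕ) < r then p - 1 else 0

include hw hw' he in
lemma e_eq (s : Finset (Fin n)) (hs : s.card = a) :
    e s = monForm dl ι (shift r p s) (s.orderEmbOfFin hs) := by
  classical
  let f : Fin n → (Fin n →₀ ℕ) := fun ν => if (ν : ℕ) < r then 0 else Finsupp.single ν (p - 1)
  have hwf : ∀ ν, w ν = monomial (f ν) (1 : R) • bvec ι dl ν := fun ν => by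
    by_cases h : (ν : ℕ) < r
    · simp only [f, bvec, dif_pos h, if_pos h]
      rw [show (monomial (0 : Fin n →₀ ℕ) (1 : R)) = 1 from rfl, one_smul]
      exact hw ⟨ν, h⟩
    · simp only [f, bvec, dif_neg h, if_neg h]
      rw [hw' ν (not_lt.mp h), map_smul, X_pow_eq_monomial]
  rw [he s hs, monForm, B]
  simp only [hwf]
  rw [show (fun k => monomial (f (s.orderEmbOfFin hs k)) (1 : R) • bvec ι dl (s.orderEmbOfFin hs k)) =
    fun k => (fun k => monomial (f (s.orderEmbOfFin hs k)) (1 : R)) k •
      (fun k => bvec ι dl (s.orderEmbOfFin hs k)) k from rfl]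
  rw [← AlternatingMap.coe_multilinearMap, MultilinearMap.map_smul_univ]
  congr 1
  rw [← monomial_sum_one]
  congr 2
  refine Finsupp.ext fun ν => ?_
  rw [Finsupp.finsetSum_apply]
  simp only [shift, Finsupp.coe_equivFunOnFinite_symm, f]
  by_cases h : (ν : ℕ) < r
  · rw [if_neg (fun h' => h'.2 h)]
    refine Finset.sum_eq_zero fun k _ => ?_
    split_ifs with hk
    · rfl
    · rw [Finsupp.single_apply, if_neg]
      rintro rfl
      exact hk h
  · by_cases hν : ν ∈ s
    · rw [if_pos ⟨hν, h⟩]
      obtain ⟨k₀, rfl⟩ : ∃ k, s.orderEmbOfFin hs k = ν := by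
        have : ν ∈ Set.range (s.orderEmbOfFin hs) := by rwa [Finset.range_orderEmbOfFin]
        exact this
      rw [Finset.sum_eq_single k₀]
      · rw [if_neg h, Finsupp.single_eq_same]
      · intro k _ hk
        split_ifs
        · rfl
        · exact Finsupp.single_eq_of_ne fun h' => hk ((s.orderEmbOfFin hs).injective h').symm
      · simp
    · rw [if_neg (fun h' => hν h'.1)]
      refine Finset.sum_eq_zero fun k _ => ?_
      split_ifs
      · rfl
      · rw [Finsupp.single_apply, if_neg]
        rintro rfl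
        exact hν (Finset.orderEmbOfFin_mem s hs k)

lemma weight_orderEmb (m : Fin n →₀ ℕ) (s : Finset (Fin n)) (hs : s.card = a) (j : Fin n) :
    weight r m (s.orderEmbOfFin hs) j = m j + if j ∈ s ∧ ¬ (j : ℕ) < r then 1 else 0 := by
  classical
  rw [weight]
  congr 1
  unfold wt
  by_cases hj : j ∈ s
  · obtain ⟨k₀, rfl⟩ : ∃ k, s.orderEmbOfFin hs k = j := by
      have : j ∈ Set.range (s.orderEmbOfFin hs) := by rwa [Finset.range_orderEmbOfFin]
      exact this
    rw [Finset.sum_eq_single k₀]
    · simp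
    · intro k _ hk
      rw [if_neg]
      exact fun h' => hk ((s.orderEmbOfFin hs).injective h'.1)
    · simp
  · rw [if_neg (fun h' => hj h'.1)]
    refine Finset.sum_eq_zero fun k _ => if_neg ?_
    rintro ⟨rfl, -⟩
    exact hj (Finset.orderEmbOfFin_mem s hs k)

include hw hw' he in
lemma expand_smul_e (q : Fin n →₀ ℕ) (s : Finset (Fin n)) (hs : s.card = a) :
    MvPolynomial.expand p (monomial q (1 : R)) • e s =
      monForm dl ι (p • q + shift r p s) (s.orderEmbOfFin hs) := by
  rw [e_eq p hw hw' he s hs, monForm, monForm, smul_smul, expand_monomial, monomial_mul, one_mul]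

lemma dvd_weight_expand (q : Fin n →₀ ℕ) (s : Finset (Fin n)) (hs : s.card = a) (j : Fin n) :
    p ∣ weight r (p • q + shift r p s) (s.orderEmbOfFin hs) j := by
  have hp : p.Prime := Fact.out
  rw [weight_orderEmb]
  simp only [Finsupp.add_apply, Finsupp.smul_apply, smul_eq_mul, shift,
    Finsupp.coe_equivFunOnFinite_symm]
  split_ifs
  · exact ⟨q j + 1, by rw [mul_add, mul_one, add_assoc, Nat.sub_add_cancel hp.one_le]⟩
  · exact ⟨q j, by simp⟩

include hw hw' he hlog in
lemma cproj_expand_smul_e (g : (MvPolynomial (Fin n) R)) (s : Finset (Fin n)) (hs : s.card = a) :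
    cproj hL (d := d) p a (MvPolynomial.expand p g • e s) = MvPolynomial.expand p g • e s := by
  induction g using MvPolynomial.induction_on' with
  | monomial q c =>
    have h1 : MvPolynomial.expand p (monomial q c) • e s =
        c • (MvPolynomial.expand p (monomial q (1 : R)) • e s) := by
      rw [← smul_assoc, ← map_smul, smul_monomial, smul_eq_mul, mul_one]
    rw [h1, expand_smul_e p hw hw' he q s hs, map_smul, cproj_monForm hL p hlog,
      if_pos (dvd_weight_expand p q s hs)]
  | add f g hf hg => rw [map_add, add_smul, map_add, hf, hg]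

include hw hw' he hlog in
lemma exists_cproj_eq (x : ↥(⋀[(MvPolynomial (Fin n) R)]^a L)) :
    ∃ g : Finset (Fin n) → (MvPolynomial (Fin n) R), cproj hL (d := d) p a x =
      ∑ s ∈ Finset.powersetCard a Finset.univ, MvPolynomial.expand p (g s) • e s := by
  classical
  induction x using induction_monForm hL with
  | h0 => exact ⟨0, by simp⟩
  | hadd x y hx hy =>
    obtain ⟨g, hg⟩ := hx
    obtain ⟨g', hg'⟩ := hy
    exact ⟨g + g', by simp only [Pi.add_apply, map_add, hg, hg', add_smul, Finset.sum_add_distrib]⟩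
  | hgen c m s =>
    rw [map_smul, cproj_monForm hL p hlog]
    split_ifs with h
    · have hs : (s : Finset (Fin n)).card = a := s.2
      have ht : (Set.powersetCard.ofFinEmbEquiv.symm s : Fin a ↪o Fin n) =
          (s : Finset (Fin n)).orderEmbOfFin hs := rfl
      let q : Fin n →₀ ℕ := Finsupp.equivFunOnFinite.symm fun ν => (m ν - shift r p (s : Finset (Fin n)) ν) / p
      have hm : m = p • q + shift r p (s : Finset (Fin n)) := by
        refine Finsupp.ext fun ν => ?_
        have h' := h ν
        rw [ht, weight_orderEmb] at h'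
        simp only [q, Finsupp.add_apply, Finsupp.smul_apply, smul_eq_mul, shift,
          Finsupp.coe_equivFunOnFinite_symm]
        have hp : p.Prime := Fact.out
        split_ifs at h' ⊢
        · obtain ⟨k, hk⟩ := h'
          obtain ⟨k', rfl⟩ : ∃ k', k = k' + 1 := ⟨k - 1, by
            rcases k with _ | k
            · simp at hk
            · simp⟩
          have hk' : m ν = p * k' + (p - 1) := by
            have := hp.one_le
            rw [mul_add, mul_one] at hk
            omega
          rw [hk', Nat.add_sub_cancel, Nat.mul_div_cancel_left _ hp.pos]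
        · rw [add_zero] at h'
          rw [Nat.sub_zero, add_zero, Nat.mul_div_cancel' h']
      refine ⟨fun t => if t = (s : Finset (Fin n)) then monomial q c else 0, ?_⟩
      rw [Finset.sum_eq_single (s : Finset (Fin n))]
      · dsimp only
        rw [if_pos rfl, ht]
        rw [show monomial q c = c • monomial q (1 : R) by rw [smul_monomial, smul_eq_mul, mul_one],
          map_smul, smul_assoc, expand_smul_e p hw hw' he q _ hs, ← hm]
      · intro t _ ht'
        dsimp only
        rw [if_neg ht', map_zero, zero_smul]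
      · intro hns
        exact absurd (Finset.mem_powersetCard.mpr ⟨Finset.subset_univ _, hs⟩) hns
    · exact ⟨0, by simp⟩

set_option maxHeartbeats 800000 in
include hL hw hw' he in
lemma eq_zero_of_sum_eq_zero (g : Finset (Fin n) → (MvPolynomial (Fin n) R))
    (h : ∑ s ∈ Finset.powersetCard a Finset.univ, MvPolynomial.expand p (g s) • e s = 0)
    (s : Finset (Fin n)) (hs : s ∈ Finset.powersetCard a Finset.univ) : g s = 0 := by
  classical
  have hcard : s.card = a := (Finset.mem_powersetCard.mp hs).2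
  let S : Set.powersetCard (Fin n) a := Set.powersetCard.ofCard hcard
  let bb := (lbasis hL).exteriorPower (n := a)
  have he' : ∀ (t : Finset (Fin n)) (ht : t.card = a),
      e t = monomial (shift r p t) (1 : R) • bb (Set.powersetCard.ofCard ht) := fun t ht => by
    rw [e_eq p hw hw' he t ht, exteriorPower.basis_apply, monForm]
    refine congrArg (monomial (shift r p t) (1 : R) • ·) (congrArg (ιMulti (MvPolynomial (Fin n) R) a) (funext fun k => ?_))
    exact (lbasis_apply hL _).symm
  have h1 := congrArg (fun z => bb.repr z S) h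
  simp only [map_sum, map_smul, Finsupp.finsetSum_apply, Finsupp.smul_apply, map_zero,
    Finsupp.zero_apply] at h1
  rw [Finset.sum_eq_single s] at h1
  · rw [he' s hcard, map_smul, bb.repr_self, Finsupp.smul_apply, Finsupp.single_eq_same, smul_eq_mul,
      smul_eq_mul, mul_one] at h1
    exact (MvPolynomial.expand_injective (Fact.out : p.Prime).pos)
      ((eq_zero_of_mul_monomial h1).trans (map_zero _).symm)
  · intro t ht hts
    have htc := (Finset.mem_powersetCard.mp ht).2
    rw [he' t htc, map_smul, bb.repr_self, Finsupp.smul_apply,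
      Finsupp.single_eq_of_ne fun h' => hts (congrArg Subtype.val h').symm, smul_zero, smul_zero]
  · exact fun h' => absurd hs h'

include hL hw hw' he hlog in
/-- Closed forms are exact plus combinations of the `e s` with `p`-th power coefficients, uniquely. -/
theorem mem_cocycles_iff_and_independent
    (hd : DeRham.IsDiff (ι.compDer (KaehlerDifferential.D R (MvPolynomial (Fin n) R))) d) :
    (∀ ω, ω ∈ DeRham.cocycles d a ↔ ∃ (g : Finset (Fin n) → (MvPolynomial (Fin n) R)) (η : ↥(⋀[(MvPolynomial (Fin n) R)]^a L)),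
      η ∈ DeRham.coboundaries d a ∧
        ω = η + ∑ s ∈ Finset.powersetCard a Finset.univ, MvPolynomial.expand p (g s) • e s) ∧
    (∀ g : Finset (Fin n) → (MvPolynomial (Fin n) R),
      (∑ s ∈ Finset.powersetCard a Finset.univ, MvPolynomial.expand p (g s) • e s) ∈
        DeRham.coboundaries d a →
      ∀ s ∈ Finset.powersetCard a (Finset.univ : Finset (Fin n)), g s = 0) := by
  have hdd : ∀ (q : ℕ) (x : ↥(⋀[(MvPolynomial (Fin n) R)]^q L)), d (q + 1) (d q x) = 0 :=
    fun q x => LinearMap.congr_fun (hd.2 q) x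
  have hp : p.Prime := Fact.out
  have hc : ∀ (j : Fin n) (q : ℕ) (x : ↥(⋀[(MvPolynomial (Fin n) R)]^q L)),
      d q (lie d (phi hL j) q x) = lie d (phi hL j) (q + 1) (d q x) := fun j => lie_comm (phi hL j) hdd
  have hcomm : ∀ (q : ℕ) (x : ↥(⋀[(MvPolynomial (Fin n) R)]^q L)),
      d q (cproj hL (d := d) p q x) = cproj hL (d := d) p (q + 1) (d q x) := fun q x =>
    proj_comm d (fun (j : Fin n) (q : ℕ) => lie d (phi hL j) q) (p - 1) hc (List.finRange n) q x
  have hbd : ∀ (q : ℕ) (η : ↥(⋀[(MvPolynomial (Fin n) R)]^q L)), η ∈ DeRham.coboundaries d q →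
      d q η = 0 ∧ cproj hL (d := d) p q η = 0 := by
    rintro (_ | q) η hη
    · rw [show η = 0 from (Submodule.mem_bot R).mp hη, map_zero, map_zero]
      exact ⟨rfl, rfl⟩
    · obtain ⟨ξ, rfl⟩ := LinearMap.mem_range.mp hη
      exact ⟨hdd q ξ, by rw [← hcomm, d_cproj hL p hlog]⟩
  have hfix : ∀ g : Finset (Fin n) → (MvPolynomial (Fin n) R), cproj hL (d := d) p a
      (∑ s ∈ Finset.powersetCard a Finset.univ, MvPolynomial.expand p (g s) • e s) =
      ∑ s ∈ Finset.powersetCard a Finset.univ, MvPolynomial.expand p (g s) • e s := fun g => by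
    rw [map_sum]
    exact Finset.sum_congr rfl fun s hs =>
      cproj_expand_smul_e hL p hlog hw hw' he (g s) s (Finset.mem_powersetCard.mp hs).2
  refine ⟨fun ω => ⟨fun hω => ?_, ?_⟩, fun g hg => ?_⟩
  · obtain ⟨g, hg⟩ := exists_cproj_eq hL p hlog hw hw' he ω
    refine ⟨g, ω - cproj hL (d := d) p a ω, ?_, by rw [hg, sub_add_cancel]⟩
    exact sub_proj_mem d (fun (j : Fin n) (q : ℕ) => lie d (phi hL j) q) (p - 1) hc
      (by have := hp.two_le; omega)
      (fun j x hx => lie_mem_coboundaries (phi hL j) a x (LinearMap.mem_ker.2 hx)) (List.finRange n) ω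
      (LinearMap.mem_ker.1 hω)
  · rintro ⟨g, η, hη, rfl⟩
    refine LinearMap.mem_ker.2 ?_
    rw [map_add, (hbd a η hη).1, ← hfix g, d_cproj hL p hlog, add_zero]
  · exact eq_zero_of_sum_eq_zero hL p hw hw' he g ((hfix g).symm.trans (hbd a _ hg).2)

end Groth.Agent.LogCartier
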